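import Cfsg.Agent.Lib.Helper12.TC.HeW1.Chk0
import Cfsg.Agent.Lib.Helper12.TC.HePres

/-! the word identity HeW1 (generated, helper12) -/

set_option autoImplicit false
set_option maxRecDepth 100000

namespace Cfsg.Agent.Lib.Helper12.TC.HeW1

open Cfsg.Agent.Lib.Helper12.TC Cfsg.Agent.Lib.Helper12.TC.HePres

/-- the chunks of derived facts -/
def chunks : List (ℕ × List ℕ) :=
  [(6564, c0), (8564, c1), (10564, c2)]

theorem hcover : coverK cD cK chunks = true := by decide +kernel

theorem hchunks : ∀ c ∈ chunks, chunkK F RW cR0 c.2 c.1 = true := by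
  intro c hc
  simp only [chunks, List.mem_cons, List.not_mem_nil, or_false] at hc
  rcases hc with rfl | rfl | rfl
  · exact chunk0
  · exact chunk1
  · exact chunk2

theorem hdefs : defsK F cD = true := by decide +kernel

theorem hrelc : relCheckK RW cR0 cR0 (baseL Cfsg.Spor.He.edges gen 7 extraWords) rotW [] = true := by
  decide +kernel

theorem hlet : lettersK 7 (baseL Cfsg.Spor.He.edges gen 7 extraWords) = true := by decide +kernel

theorem hwalk : stepsK F (cK - 1) wrec 0 0 25 0 (pack ww) = true := by decide +kernel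

/-- the word is trivial in the presented group -/
theorem word_eq_one :
    wprod (fun i => PresentedGroup.mk (Cfsg.Spor.coxRelators Cfsg.Spor.He.edges ∪ {r | r ∈ Cfsg.Spor.He.extra})
      (FreeGroup.of (gen i))) ww = 1 :=
  Fn.presented_word_eq_one Cfsg.Spor.He.edges Cfsg.Spor.He.extra gen 7 (by decide) hnodes extraWords hextra F RW rotW chunks
    cD cK cR0 (by decide) hdefs hchunks hcover hrelc hlet ww (by decide) wrec 25 hwalk

end Cfsg.Agent.Lib.Helper12.TC.HeW1
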